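import Mathlib
import Cfsg.Prelude.Def_Spor_Suz
import Cfsg.Agent.H93.CosetCox
import Cfsg.Agent.H93.CosetFast

/-!
A checked coset table (generated data).
-/

set_option autoImplicit false
set_option maxRecDepth 100000
set_option linter.all false
set_option Elab.async false

namespace H93
namespace SuzLC

open Coset

noncomputable section

noncomputable def tT0 : ℕ := 0x0

noncomputable def tT1 : ℕ := 0x0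

noncomputable def tT2 : ℕ := 0x0

noncomputable def tT3 : ℕ := 0x0

noncomputable def tT4 : ℕ := 0x0

noncomputable def tT5 : ℕ := 0x0

noncomputable def tT6 : ℕ := 0x0

noncomputable def tTsel (g : ℕ) : ℕ := bif Nat.beq g 0 then tT0 else bif Nat.beq g 1 then tT1 else bif Nat.beq g 2 then tT2 else bif Nat.beq g 3 then tT3 else bif Nat.beq g 4 then tT4 else bif Nat.beq g 5 then tT5 else tT6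

noncomputable def tT (g c : ℕ) : ℕ := Nat.land (Nat.shiftRight (tTsel g) (16 * c)) 65535

noncomputable def tM0 : ℕ := 0x1

noncomputable def tM1 : ℕ := 0x2

noncomputable def tM2 : ℕ := 0x5

noncomputable def tM3 : ℕ := 0x3

noncomputable def tM4 : ℕ := 0x4

noncomputable def tM5 : ℕ := 0x6

noncomputable def tM6 : ℕ := 0x7

noncomputable def tMsel (g : ℕ) : ℕ := bif Nat.beq g 0 then tM0 else bif Nat.beq g 1 then tM1 else bif Nat.beq g 2 then tM2 else bif Nat.beq g 3 then tM3 else bif Nat.beq g 4 then tM4 else bif Nat.beq g 5 then tM5 else tM6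

noncomputable def tM (g c : ℕ) : ℕ := Nat.land (Nat.shiftRight (tMsel g) (8 * c)) 255

noncomputable def tJ0 : ℕ := 0x2

noncomputable def tJ1 : ℕ := 0x102

noncomputable def tJ2 : ℕ := 0x402

noncomputable def tJ3 : ℕ := 0x202

noncomputable def tJ4 : ℕ := 0x302

noncomputable def tJ5 : ℕ := 0x502

noncomputable def tJ6 : ℕ := 0x46

noncomputable def tJsel (g : ℕ) : ℕ := bif Nat.beq g 0 then tJ0 else bif Nat.beq g 1 then tJ1 else bif Nat.beq g 2 then tJ2 else bif Nat.beq g 3 then tJ3 else bif Nat.beq g 4 then tJ4 else bif Nat.beq g 5 then tJ5 else tJ6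

noncomputable def tJ (g c : ℕ) : ℕ := Nat.land (Nat.shiftRight (tJsel g) (16 * c)) 65535

noncomputable def tPA0 : ℕ := 0x0
noncomputable def tPA (c : ℕ) : ℕ := Nat.land (Nat.shiftRight tPA0 (8 * c)) 255

def patch0 : Patch := ([(0,0),(0,1),(0,2),(0,3),(0,4),(0,5),(0,6),(5,0),(6,0),(7,0),(4,1),(5,1),(5,2),(6,2),(6,3),(6,6),(3,1),(17,2),(18,1),(7,1),(20,6),(21,1),(5,3),(23,4),(24,3),(7,5),(26,4),(3,3),(9,4),(22,2),(22,3),(22,4),(22,5)],[(0,0,1,0,[],[]),(0,1,2,0,[],[]),(0,2,3,0,[],[]),(0,3,4,0,[],[]),(0,4,5,0,[],[]),(0,5,6,0,[],[]),(0,6,7,0,[],[]),(5,0,8,0,[],[]),(8,4,1,6,[(1,0,4),(1,0,7)],[(1,0,0)]),(6,0,9,0,[],[]),(9,5,1,7,[(1,0,5),(1,0,9)],[(1,0,0)]),(7,0,10,0,[],[]),(10,6,1,8,[(1,0,6),(1,0,11)],[(1,0,0)]),(4,1,11,0,[],[]),(11,3,2,11,[(1,0,3),(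1,0,13)],[(1,0,1)]),(5,1,12,0,[],[]),(12,4,2,12,[(1,0,4),(1,0,15)],[(1,0,1)]),(5,2,13,0,[],[]),(13,4,3,17,[(1,0,4),(1,0,17)],[(1,0,2)]),(6,2,14,0,[],[]),(14,5,3,18,[(1,0,5),(1,0,19)],[(1,0,2)]),(6,3,15,0,[],[]),(15,5,4,22,[(1,0,5),(1,0,21)],[(1,0,3)]),(6,6,16,0,[],[]),(16,5,10,31,[(1,0,5),(1,0,23)],[(1,0,0),(2,0,12)]),(3,1,17,0,[],[]),(17,2,18,0,[],[]),(18,1,19,0,[],[]),(19,2,2,10,[(1,0,2),(1,0,25),(1,0,26),(1,0,27)],[(1,0,1)]),(7,1,20,0,[],[]),(20,6,21,0,[],[]),(21,1,22,0,[],[]),(22,6,2,14,[(1,0,6),(1,0,29),(1,0,30),(1,0,31)],[(1,0,1)]),(5,3,23,0,[],[]),(23,4,24,0,[],[]),(24,3,25,0,[],[]),(25,4,4,21,[(1,0,4),(1,0,33),(1,0,34),(1,0,35)],[(1,0,3)]),(7,5,26,0,[],[]),(26,4,27,0,[],[]),(27,3,19,35,[(1,0,6),(1,0,37),(1,0,38)],[(1,0,1),(2,0,28)]),(26,6,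9,28,[(1,0,6),(1,0,37)],[(1,0,5),(1,0,23),(1,0,24),(1,0,12),(2,0,10)]),(3,3,28,0,[],[]),(9,4,29,0,[],[]),(29,5,8,25,[(2,0,10),(1,0,42)],[(2,0,8)]),(27,6,29,26,[(2,0,40),(1,0,38)],[(1,0,42)]),(22,2,30,0,[],[]),(30,6,19,19,[(2,0,32),(1,0,45)],[(2,0,28)]),(22,3,31,0,[],[]),(31,6,11,23,[(2,0,32),(1,0,47)],[(2,0,14)]),(22,4,32,0,[],[]),(32,6,12,26,[(2,0,32),(1,0,49)],[(2,0,16)]),(22,5,33,0,[],[]),(33,4,28,35,[(2,0,32),(1,0,51)],[(2,0,1),(1,0,2),(1,0,41)]),(30,3,29,23,[(2,0,46)],[(2,0,39),(1,0,44)]),(28,5,32,25,[(1,0,51),(1,0,52)],[(1,0,49)]),(33,3,13,35,[(2,0,50),(2,0,54),(2,0,52)],[(2,0,15),(1,0,17)]),(14,3,32,22,[(2,0,20)],[(1,0,41),(1,0,54)]),(33,7,3,21,[(2,0,18),(2,0,55),(1,0,52),(2,0,41),(2,0,18),(2,0,55)],[]),(33,7,3,1,[(1,0,57)],[]),(3,5,22,1,[(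2,0,58),(2,0,51)],[]),(14,7,22,1,[(1,0,20),(1,0,59)],[]),(22,7,14,1,[(2,0,60)],[]),(14,2,30,1,[(2,0,61),(1,0,45)],[]),(6,7,30,1,[(1,0,19),(1,0,62)],[]),(14,3,31,1,[(2,0,61),(1,0,47)],[]),(32,7,31,1,[(2,0,56),(1,0,64)],[]),(30,7,6,1,[(2,0,63)],[]),(6,3,29,1,[(2,0,66),(1,0,53)],[]),(15,7,29,1,[(2,0,21),(1,0,67)],[]),(32,7,31,1,[(1,0,65)],[]),(31,6,12,1,[(2,0,69),(1,0,50)],[]),(11,7,12,1,[(2,0,48),(1,0,70)],[]),(29,7,15,1,[(2,0,68)],[]),(15,5,8,1,[(2,0,72),(1,0,43)],[]),(4,7,8,1,[(2,0,22),(1,0,73)],[]),(12,7,11,1,[(2,0,71)],[]),(11,1,5,1,[(2,0,75),(2,0,15)],[]),(4,7,5,1,[(1,0,13),(1,0,76)],[]),(8,7,4,1,[(2,0,74)],[]),(4,4,1,1,[(2,0,78),(1,0,8)],[]),(25,7,1,1,[(1,0,36),(1,0,79)],[]),(5,7,4,1,[(2,0,77)],[]),(4,4,0,1,[(2,0,81),(2,0,4)],[]),(25,7,0,1,[(1,0,36),(1,0,82)],[]),(25,7,1,1,[(1,0,80)],[]),(1,7,0,1,[(2,0,84),(1,0,83)],[]),(0,0,0,1,[(2,0,85),(2,0,0)],[]),(0,0,0,1,[(2,0,86)],[])])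

def patch1 : Patch := ([(0,1),(0,2),(0,4),(0,5),(0,6),(3,1),(3,2),(4,2),(5,2),(4,6),(4,1),(11,5),(12,1),(5,1),(14,6),(15,1),(2,3),(1,0),(18,1),(19,0),(10,1),(21,6),(22,5),(23,1),(24,6),(25,5),(26,1),(27,6),(28,5),(29,1),(13,0),(16,0),(16,4),(16,5),(8,6)],[(0,1,1,0,[],[]),(0,2,2,0,[],[]),(0,4,3,0,[],[]),(0,5,4,0,[],[]),(0,6,5,0,[],[]),(2,0,2,4,[(1,0,1)],[(0,0,0),(1,0,1)]),(3,1,6,0,[],[]),(6,4,1,12,[(1,0,2),(1,0,6)],[(1,0,0)]),(3,2,7,0,[],[]),(7,4,2,17,[(1,0,2),(1,0,8)],[(1,0,1)]),(4,2,8,0,[],[]),(8,5,2,18,[(1,0,3),(1,0,10)],[(1,0,1)]),(5,2,9,0,[],[]),(9,6,2,19,[(1,0,4),(1,0,12)],[(1,0,1)]),(4,6,10,0,[],[]),(10,5,5,31,[(1,0,3),(1,0,14)],[(0,0,0),(1,0,4)]),(4,1,11,0,[],[]),(11,5,12,0,[],[]),(12,1,13,0,[],[]),(13,5,1,13,[(1,0,3),(1,0,16),(1,0,17),(1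,0,18)],[(1,0,0)]),(5,1,14,0,[],[]),(14,6,15,0,[],[]),(15,1,16,0,[],[]),(16,6,1,14,[(1,0,4),(1,0,20),(1,0,21),(1,0,22)],[(1,0,0)]),(2,3,17,0,[],[]),(1,0,18,0,[],[]),(18,1,19,0,[],[]),(19,0,20,0,[],[]),(20,1,20,3,[(1,0,0),(1,0,25),(1,0,26),(1,0,27)],[(0,0,0),(1,0,0),(1,0,25),(1,0,26),(1,0,27)]),(10,1,21,0,[],[]),(21,6,22,0,[],[]),(22,5,23,0,[],[]),(23,1,24,0,[],[]),(24,6,25,0,[],[]),(25,5,26,0,[],[]),(26,1,27,0,[],[]),(27,6,28,0,[],[]),(28,5,29,0,[],[]),(29,1,30,0,[],[]),(30,6,13,33,[(1,0,4),(2,0,15),(1,0,29),(1,0,30),(1,0,31),(1,0,32),(1,0,33),(1,0,34),(1,0,35),(1,0,36),(1,0,37),(1,0,38)],[(1,0,0),(2,0,19)]),(13,0,31,0,[],[]),(31,5,18,7,[(2,0,19),(1,0,40)],[(1,0,25)]),(16,0,32,0,[],[]),(32,6,18,8,[(2,0,23),(1,0,42)],[(1,0,25)]),(16,4,33,0,[],[]),(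33,6,6,26,[(2,0,23),(1,0,44)],[(2,0,7)]),(30,5,32,31,[(2,0,19),(2,0,39)],[(1,0,25),(2,0,43)]),(16,5,34,0,[],[]),(34,4,17,35,[(2,0,23),(1,0,47)],[(2,0,0),(1,0,1),(1,0,24)]),(34,6,31,28,[(2,0,23),(1,0,47)],[(2,0,19),(2,0,39),(1,0,46),(1,0,43),(2,0,41)]),(17,5,33,25,[(1,0,47),(1,0,48)],[(1,0,44)]),(34,3,7,35,[(2,0,45),(2,0,50),(2,0,48)],[(2,0,6),(1,0,8)]),(8,6,35,0,[],[]),(35,5,9,31,[(2,0,11),(1,0,52)],[(2,0,5),(2,0,13)]),(34,7,2,21,[(2,0,9),(2,0,51),(1,0,48),(2,0,24),(2,0,9),(2,0,51)],[]),(34,7,2,1,[(1,0,54)],[]),(2,5,16,1,[(2,0,55),(2,0,47)],[]),(8,7,16,1,[(1,0,11),(1,0,56)],[]),(2,6,31,1,[(2,0,55),(1,0,49)],[]),(9,7,31,1,[(1,0,13),(1,0,58)],[]),(16,7,8,1,[(2,0,57)],[]),(8,6,1,1,[(2,0,60),(1,0,23)],[]),(35,7,1,1,[(2,0,52),(1,0,61)],[]),(31,7,9,1,[(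2,0,59)],[]),(9,5,18,1,[(2,0,63),(1,0,41)],[]),(35,7,18,1,[(1,0,53),(1,0,64)],[]),(35,7,1,1,[(1,0,62)],[]),(18,7,1,1,[(2,0,65),(1,0,66)],[]),(1,1,19,1,[(2,0,67),(1,0,26)],[]),(0,7,19,1,[(1,0,0),(1,0,68)],[]),(19,7,0,1,[(2,0,69)],[]),(0,0,20,1,[(2,0,70),(1,0,27)],[]),(0,7,20,1,[(0,0,0),(1,0,71)],[]),(20,7,0,1,[(2,0,72)],[]),(0,1,0,1,[(2,0,73),(2,0,28),(1,0,73)],[]),(1,7,0,1,[(2,0,0),(1,0,74)],[]),(1,7,0,1,[(1,0,75)],[]),(0,1,0,1,[(2,0,76),(2,0,0)],[]),(0,1,0,1,[(2,0,77)],[])])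

def patch2 : Patch := ([(0,2),(0,3),(0,4),(0,5),(0,6),(3,2),(4,2),(5,3),(5,4),(4,6),(3,3),(11,4),(12,3),(10,4),(14,2),(15,3),(16,2),(17,3),(11,2),(19,3),(20,2),(21,1),(22,3),(23,2),(24,3),(25,2),(26,1),(27,3),(28,2),(29,3),(30,2),(31,1),(32,3),(33,2),(34,3),(35,2),(36,1),(37,3),(38,2),(39,3),(40,2),(41,1),(42,4),(43,3),(44,2),(45,3),(46,2),(47,1),(48,3),(49,2),(50,3),(51,2),(52,1),(53,3),(54,2),(55,3),(56,2),(57,1),(58,3),(59,2),(60,3),(61,2),(62,1),(63,3),(64,2),(65,3),(66,2),(67,1),(68,4),(69,3),(70,2),(71,3),(72,2),(73,1),(74,3),(75,2),(76,3),(77,2),(78,1),(79,3),(80,2),(81,3),(82,2),(83,1),(84,3),(85,2),(86,3),(87,2)],[(0,2,1,0,[],[]),(0,3,2,0,[],[]),(0,4,3,0,[],[]),(0,5,4,0,[],[]),(0,6,5,0,[],[]),(2,1,2,11,[(1,0,1)],[(0,1,0),(1,0,1)]),(3,1,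3,12,[(1,0,2)],[(0,1,0),(1,0,2)]),(3,2,6,0,[],[]),(6,4,1,17,[(1,0,2),(1,0,7)],[(1,0,0)]),(4,2,7,0,[],[]),(7,5,1,18,[(1,0,3),(1,0,9)],[(1,0,0)]),(5,3,8,0,[],[]),(8,6,2,23,[(1,0,4),(1,0,11)],[(1,0,1)]),(5,4,9,0,[],[]),(9,6,3,26,[(1,0,4),(1,0,13)],[(1,0,2)]),(4,6,10,0,[],[]),(10,5,5,31,[(1,0,3),(1,0,15)],[(0,0,0),(1,0,4)]),(3,3,11,0,[],[]),(11,4,12,0,[],[]),(12,3,13,0,[],[]),(13,4,2,21,[(1,0,2),(1,0,17),(1,0,18),(1,0,19)],[(1,0,1)]),(10,4,14,0,[],[]),(14,3,1,35,[(1,0,4),(2,0,16),(1,0,21)],[(0,1,0),(1,0,0)]),(14,2,15,0,[],[]),(15,3,16,0,[],[]),(16,2,17,0,[],[]),(17,3,18,0,[],[]),(18,2,2,30,[(1,0,0),(2,0,22),(1,0,23),(1,0,24),(1,0,25),(1,0,26)],[(0,0,0),(1,0,1)]),(11,2,19,0,[],[]),(19,3,20,0,[],[]),(20,2,21,0,[],[]),(21,1,22,0,[],[]),(22,3,23,0,[],[]),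(23,2,24,0,[],[]),(24,3,25,0,[],[]),(25,2,26,0,[],[]),(26,1,27,0,[],[]),(27,3,28,0,[],[]),(28,2,29,0,[],[]),(29,3,30,0,[],[]),(30,2,31,0,[],[]),(31,1,32,0,[],[]),(32,3,33,0,[],[]),(33,2,34,0,[],[]),(34,3,35,0,[],[]),(35,2,36,0,[],[]),(36,1,37,0,[],[]),(37,3,38,0,[],[]),(38,2,39,0,[],[]),(39,3,40,0,[],[]),(40,2,41,0,[],[]),(41,1,42,0,[],[]),(42,4,43,0,[],[]),(43,3,44,0,[],[]),(44,2,45,0,[],[]),(45,3,46,0,[],[]),(46,2,47,0,[],[]),(47,1,48,0,[],[]),(48,3,49,0,[],[]),(49,2,50,0,[],[]),(50,3,51,0,[],[]),(51,2,52,0,[],[]),(52,1,53,0,[],[]),(53,3,54,0,[],[]),(54,2,55,0,[],[]),(55,3,56,0,[],[]),(56,2,57,0,[],[]),(57,1,58,0,[],[]),(58,3,59,0,[],[]),(59,2,60,0,[],[]),(60,3,61,0,[],[]),(61,2,62,0,[],[]),(62,1,63,0,[],[]),(63,3,64,0,[],[]),(64,2,65,0,[],[]),(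65,3,66,0,[],[]),(66,2,67,0,[],[]),(67,1,68,0,[],[]),(68,4,69,0,[],[]),(69,3,70,0,[],[]),(70,2,71,0,[],[]),(71,3,72,0,[],[]),(72,2,73,0,[],[]),(73,1,74,0,[],[]),(74,3,75,0,[],[]),(75,2,76,0,[],[]),(76,3,77,0,[],[]),(77,2,78,0,[],[]),(78,1,79,0,[],[]),(79,3,80,0,[],[]),(80,2,81,0,[],[]),(81,3,82,0,[],[]),(82,2,83,0,[],[]),(83,1,84,0,[],[]),(84,3,85,0,[],[]),(85,2,86,0,[],[]),(86,3,87,0,[],[]),(87,2,88,0,[],[]),(88,1,16,34,[(1,0,2),(1,0,17),(1,0,28),(1,0,29),(1,0,30),(1,0,31),(1,0,32),(1,0,33),(1,0,34),(1,0,35),(1,0,36),(1,0,37),(1,0,38),(1,0,39),(1,0,40),(1,0,41),(1,0,42),(1,0,43),(1,0,44),(1,0,45),(1,0,46),(1,0,47),(1,0,48),(1,0,49),(1,0,50),(1,0,51),(1,0,52),(1,0,53),(1,0,54),(1,0,55),(1,0,56),(1,0,57),(1,0,58),(1,0,59),(1,0,60),(1,0,61),(1,0,62)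,(1,0,63),(1,0,64),(1,0,65),(1,0,66),(1,0,67),(1,0,68),(1,0,69),(1,0,70),(1,0,71),(1,0,72),(1,0,73),(1,0,74),(1,0,75),(1,0,76),(1,0,77),(1,0,78),(1,0,79),(1,0,80),(1,0,81),(1,0,82),(1,0,83),(1,0,84),(1,0,85),(1,0,86),(1,0,87),(1,0,88),(1,0,89),(1,0,90),(1,0,91),(1,0,92),(1,0,93),(1,0,94),(1,0,95),(1,0,96),(1,0,97)],[(0,1,0),(1,0,0),(2,0,22),(1,0,23),(1,0,24)]),(11,1,11,11,[(1,0,17)],[(2,0,6),(1,0,17)]),(14,5,9,25,[(2,0,16),(1,0,21)],[(1,0,13)]),(10,3,6,35,[(2,0,14),(2,0,100),(2,0,21)],[(2,0,6),(1,0,7)]),(7,3,9,22,[(2,0,10)],[(2,0,22),(1,0,100)]),(10,7,1,21,[(2,0,8),(2,0,101),(1,0,21),(1,0,22),(2,0,8),(2,0,101)],[]),(10,7,1,1,[(1,0,103)],[]),(1,3,6,1,[(2,0,104),(1,0,101)],[]),(14,7,6,1,[(1,0,22),(1,0,105)],[]),(1,5,5,1,[(2,0,104),(1,0,16)],[]),(7,7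,5,1,[(1,0,10),(1,0,107)],[]),(14,7,6,1,[(1,0,106)],[]),(6,2,15,1,[(2,0,109),(1,0,23)],[]),(3,7,15,1,[(1,0,7),(1,0,110)],[]),(6,3,1,1,[(2,0,109),(1,0,22)],[]),(7,7,5,1,[(1,0,108)],[]),(5,3,9,1,[(2,0,113),(1,0,102)],[]),(8,7,9,1,[(2,0,11),(1,0,114)],[]),(15,7,3,1,[(2,0,111)],[]),(3,3,16,1,[(2,0,116),(1,0,24)],[]),(11,7,16,1,[(2,0,17),(1,0,117)],[]),(9,7,8,1,[(2,0,115)],[]),(8,6,3,1,[(2,0,119),(1,0,14)],[]),(2,7,3,1,[(2,0,12),(1,0,120)],[]),(16,7,11,1,[(2,0,118)],[]),(11,1,88,1,[(2,0,122),(2,0,98)],[]),(11,7,88,1,[(1,0,99),(1,0,123)],[]),(11,2,17,1,[(2,0,122),(1,0,25)],[]),(19,7,17,1,[(2,0,28),(1,0,125)],[]),(3,7,2,1,[(2,0,121)],[]),(2,2,6,1,[(2,0,127),(1,0,7)],[]),(18,7,6,1,[(1,0,27),(1,0,128)],[]),(2,3,11,1,[(2,0,127),(1,0,17)],[]),(0,7,11,1,[(1,0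,1),(1,0,130)],[]),(2,4,0,1,[(2,0,127),(2,0,2)],[]),(13,7,0,1,[(1,0,20),(1,0,132)],[]),(88,7,11,1,[(2,0,124)],[]),(11,2,87,1,[(2,0,134),(2,0,97)],[]),(19,7,87,1,[(2,0,28),(1,0,135)],[]),(19,7,17,1,[(1,0,126)],[]),(17,3,20,1,[(2,0,137),(1,0,29)],[]),(18,7,20,1,[(2,0,26),(1,0,138)],[]),(18,7,6,1,[(1,0,129)],[]),(6,2,2,1,[(2,0,140),(1,0,27)],[]),(6,3,17,1,[(2,0,140),(2,0,26)],[]),(1,7,17,1,[(2,0,112),(1,0,142)],[]),(11,7,0,1,[(2,0,131)],[]),(0,4,12,1,[(2,0,144),(1,0,18)],[]),(13,7,0,1,[(1,0,133)],[]),(0,3,12,1,[(2,0,146),(2,0,19)],[]),(2,7,12,1,[(2,0,1),(1,0,147)],[]),(87,7,17,1,[(2,0,136),(1,0,137)],[]),(17,3,86,1,[(2,0,149),(2,0,96)],[]),(20,7,6,1,[(2,0,139),(1,0,140)],[]),(6,2,21,1,[(2,0,151),(1,0,30)],[]),(2,7,21,1,[(2,0,141),(1,0,152)],[]),(17,7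,1,1,[(2,0,143)],[]),(1,3,86,1,[(2,0,154),(1,0,150)],[]),(6,7,86,1,[(1,0,112),(1,0,155)],[]),(12,7,2,1,[(2,0,148)],[]),(2,4,0,1,[(2,0,157),(2,0,145)],[]),(21,7,2,1,[(2,0,153)],[]),(2,1,22,1,[(2,0,159),(1,0,31)],[]),(2,7,22,1,[(1,0,5),(1,0,160)],[]),(86,7,6,1,[(2,0,156)],[]),(6,2,85,1,[(2,0,162),(2,0,95)],[]),(2,7,85,1,[(2,0,141),(1,0,163)],[]),(22,7,2,1,[(2,0,161)],[]),(2,3,23,1,[(2,0,165),(1,0,32)],[]),(0,7,23,1,[(1,0,1),(1,0,166)],[]),(85,7,2,1,[(2,0,164)],[]),(2,3,84,1,[(2,0,168),(2,0,94)],[]),(0,7,84,1,[(1,0,1),(1,0,169)],[]),(23,7,0,1,[(2,0,167)],[]),(0,2,24,1,[(2,0,171),(1,0,33)],[]),(1,7,24,1,[(2,0,0),(1,0,172)],[]),(84,7,0,1,[(2,0,170)],[]),(0,1,83,1,[(2,0,174),(2,0,93)],[]),(0,7,83,1,[(0,1,0),(1,0,175)],[]),(24,7,1,1,[(2,0,173)],[]),(1,3,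25,1,[(2,0,177),(1,0,34)],[]),(6,7,25,1,[(1,0,112),(1,0,178)],[]),(83,7,0,1,[(2,0,176)],[]),(0,2,82,1,[(2,0,180),(2,0,92)],[]),(1,7,82,1,[(2,0,0),(1,0,181)],[]),(25,7,6,1,[(2,0,179)],[]),(6,2,26,1,[(2,0,183),(1,0,35)],[]),(2,7,26,1,[(2,0,141),(1,0,184)],[]),(82,7,1,1,[(2,0,182)],[]),(1,3,81,1,[(2,0,186),(2,0,91)],[]),(6,7,81,1,[(1,0,112),(1,0,187)],[]),(26,7,2,1,[(2,0,185)],[]),(2,1,27,1,[(2,0,189),(1,0,36)],[]),(2,7,27,1,[(1,0,5),(1,0,190)],[]),(81,7,6,1,[(2,0,188)],[]),(6,2,80,1,[(2,0,192),(2,0,90)],[]),(2,7,80,1,[(2,0,141),(1,0,193)],[]),(27,7,2,1,[(2,0,191)],[]),(2,3,28,1,[(2,0,195),(1,0,37)],[]),(0,7,28,1,[(1,0,1),(1,0,196)],[]),(80,7,2,1,[(2,0,194)],[]),(2,3,79,1,[(2,0,198),(2,0,89)],[]),(0,7,79,1,[(1,0,1),(1,0,199)],[]),(28,7,0,1,[(2,0,197)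],[]),(0,2,29,1,[(2,0,201),(1,0,38)],[]),(1,7,29,1,[(2,0,0),(1,0,202)],[]),(79,7,0,1,[(2,0,200)],[]),(0,1,78,1,[(2,0,204),(2,0,88)],[]),(0,7,78,1,[(0,1,0),(1,0,205)],[]),(29,7,1,1,[(2,0,203)],[]),(1,3,30,1,[(2,0,207),(1,0,39)],[]),(6,7,30,1,[(1,0,112),(1,0,208)],[]),(78,7,0,1,[(2,0,206)],[]),(0,2,77,1,[(2,0,210),(2,0,87)],[]),(1,7,77,1,[(2,0,0),(1,0,211)],[]),(30,7,6,1,[(2,0,209)],[]),(6,2,31,1,[(2,0,213),(1,0,40)],[]),(2,7,31,1,[(2,0,141),(1,0,214)],[]),(77,7,1,1,[(2,0,212)],[]),(1,3,76,1,[(2,0,216),(2,0,86)],[]),(6,7,76,1,[(1,0,112),(1,0,217)],[]),(31,7,2,1,[(2,0,215)],[]),(2,1,32,1,[(2,0,219),(1,0,41)],[]),(2,7,32,1,[(1,0,5),(1,0,220)],[]),(76,7,6,1,[(2,0,218)],[]),(6,2,75,1,[(2,0,222),(2,0,85)],[]),(2,7,75,1,[(2,0,141),(1,0,223)],[]),(32,7,2,1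,[(2,0,221)],[]),(2,3,33,1,[(2,0,225),(1,0,42)],[]),(0,7,33,1,[(1,0,1),(1,0,226)],[]),(75,7,2,1,[(2,0,224)],[]),(2,3,74,1,[(2,0,228),(2,0,84)],[]),(0,7,74,1,[(1,0,1),(1,0,229)],[]),(33,7,0,1,[(2,0,227)],[]),(0,2,34,1,[(2,0,231),(1,0,43)],[]),(1,7,34,1,[(2,0,0),(1,0,232)],[]),(74,7,0,1,[(2,0,230)],[]),(0,1,73,1,[(2,0,234),(2,0,83)],[]),(0,7,73,1,[(0,1,0),(1,0,235)],[]),(34,7,1,1,[(2,0,233)],[]),(1,3,35,1,[(2,0,237),(1,0,44)],[]),(6,7,35,1,[(1,0,112),(1,0,238)],[]),(73,7,0,1,[(2,0,236)],[]),(0,2,72,1,[(2,0,240),(2,0,82)],[]),(1,7,72,1,[(2,0,0),(1,0,241)],[]),(35,7,6,1,[(2,0,239)],[]),(6,2,36,1,[(2,0,243),(1,0,45)],[]),(2,7,36,1,[(2,0,141),(1,0,244)],[]),(72,7,1,1,[(2,0,242)],[]),(1,3,71,1,[(2,0,246),(2,0,81)],[]),(6,7,71,1,[(1,0,112),(1,0,247)],[]),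(36,7,2,1,[(2,0,245)],[]),(2,1,37,1,[(2,0,249),(1,0,46)],[]),(2,7,37,1,[(1,0,5),(1,0,250)],[]),(71,7,6,1,[(2,0,248)],[]),(6,2,70,1,[(2,0,252),(2,0,80)],[]),(2,7,70,1,[(2,0,141),(1,0,253)],[]),(37,7,2,1,[(2,0,251)],[]),(2,3,38,1,[(2,0,255),(1,0,47)],[]),(0,7,38,1,[(1,0,1),(1,0,256)],[]),(70,7,2,1,[(2,0,254)],[]),(2,3,69,1,[(2,0,258),(2,0,79)],[]),(0,7,69,1,[(1,0,1),(1,0,259)],[]),(38,7,0,1,[(2,0,257)],[]),(0,2,39,1,[(2,0,261),(1,0,48)],[]),(1,7,39,1,[(2,0,0),(1,0,262)],[]),(69,7,0,1,[(2,0,260)],[]),(0,4,68,1,[(2,0,264),(2,0,78)],[]),(2,7,68,1,[(1,0,158),(1,0,265)],[]),(39,7,1,1,[(2,0,263)],[]),(1,3,40,1,[(2,0,267),(1,0,49)],[]),(6,7,40,1,[(1,0,112),(1,0,268)],[]),(68,7,2,1,[(2,0,266)],[]),(2,1,67,1,[(2,0,270),(2,0,77)],[]),(2,7,67,1,[(1,0,5),(1,0,2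71)],[]),(40,7,6,1,[(2,0,269)],[]),(6,2,41,1,[(2,0,273),(1,0,50)],[]),(2,7,41,1,[(2,0,141),(1,0,274)],[]),(67,7,2,1,[(2,0,272)],[]),(2,2,66,1,[(2,0,276),(2,0,76)],[]),(6,7,66,1,[(1,0,141),(1,0,277)],[]),(41,7,2,1,[(2,0,275)],[]),(2,1,42,1,[(2,0,279),(1,0,51)],[]),(2,7,42,1,[(1,0,5),(1,0,280)],[]),(66,7,6,1,[(2,0,278)],[]),(6,3,65,1,[(2,0,282),(2,0,75)],[]),(1,7,65,1,[(2,0,112),(1,0,283)],[]),(42,7,2,1,[(2,0,281)],[]),(2,4,43,1,[(2,0,285),(1,0,52)],[]),(0,7,43,1,[(2,0,158),(1,0,286)],[]),(65,7,1,1,[(2,0,284)],[]),(1,2,64,1,[(2,0,288),(2,0,74)],[]),(0,7,64,1,[(1,0,0),(1,0,289)],[]),(43,7,0,1,[(2,0,287)],[]),(0,3,44,1,[(2,0,291),(1,0,53)],[]),(2,7,44,1,[(2,0,1),(1,0,292)],[]),(64,7,0,1,[(2,0,290)],[]),(0,3,63,1,[(2,0,294),(2,0,73)],[]),(2,7,63,1,[(2,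0,1),(1,0,295)],[]),(44,7,2,1,[(2,0,293)],[]),(2,2,45,1,[(2,0,297),(1,0,54)],[]),(6,7,45,1,[(1,0,141),(1,0,298)],[]),(63,7,2,1,[(2,0,296)],[]),(2,1,62,1,[(2,0,300),(2,0,72)],[]),(2,7,62,1,[(1,0,5),(1,0,301)],[]),(45,7,6,1,[(2,0,299)],[]),(6,3,46,1,[(2,0,303),(1,0,55)],[]),(1,7,46,1,[(2,0,112),(1,0,304)],[]),(62,7,2,1,[(2,0,302)],[]),(2,2,61,1,[(2,0,306),(2,0,71)],[]),(6,7,61,1,[(1,0,141),(1,0,307)],[]),(46,7,1,1,[(2,0,305)],[]),(1,2,47,1,[(2,0,309),(1,0,56)],[]),(0,7,47,1,[(1,0,0),(1,0,310)],[]),(61,7,6,1,[(2,0,308)],[]),(6,3,60,1,[(2,0,312),(2,0,70)],[]),(1,7,60,1,[(2,0,112),(1,0,313)],[]),(47,7,0,1,[(2,0,311)],[]),(0,1,48,1,[(2,0,315),(1,0,57)],[]),(0,7,48,1,[(0,1,0),(1,0,316)],[]),(60,7,1,1,[(2,0,314)],[]),(1,2,59,1,[(2,0,318),(2,0,69)],[]),(0,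7,59,1,[(1,0,0),(1,0,319)],[]),(48,7,0,1,[(2,0,317)],[]),(0,3,49,1,[(2,0,321),(1,0,58)],[]),(2,7,49,1,[(2,0,1),(1,0,322)],[]),(59,7,0,1,[(2,0,320)],[]),(0,3,58,1,[(2,0,324),(2,0,68)],[]),(2,7,58,1,[(2,0,1),(1,0,325)],[]),(49,7,2,1,[(2,0,323)],[]),(2,2,50,1,[(2,0,327),(1,0,59)],[]),(6,7,50,1,[(1,0,141),(1,0,328)],[]),(58,7,2,1,[(2,0,326)],[]),(2,1,57,1,[(2,0,330),(2,0,67)],[]),(2,7,57,1,[(1,0,5),(1,0,331)],[]),(50,7,6,1,[(2,0,329)],[]),(6,3,51,1,[(2,0,333),(1,0,60)],[]),(1,7,51,1,[(2,0,112),(1,0,334)],[]),(57,7,2,1,[(2,0,332)],[]),(2,2,56,1,[(2,0,336),(2,0,66)],[]),(6,7,56,1,[(1,0,141),(1,0,337)],[]),(51,7,1,1,[(2,0,335)],[]),(1,2,52,1,[(2,0,339),(1,0,61)],[]),(0,7,52,1,[(1,0,0),(1,0,340)],[]),(56,7,6,1,[(2,0,338)],[]),(6,3,55,1,[(2,0,342),(2,0,65)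],[]),(1,7,55,1,[(2,0,112),(1,0,343)],[]),(52,7,0,1,[(2,0,341)],[]),(0,1,53,1,[(2,0,345),(1,0,62)],[]),(0,7,53,1,[(0,1,0),(1,0,346)],[]),(55,7,1,1,[(2,0,344)],[]),(1,2,54,1,[(2,0,348),(2,0,64)],[]),(0,7,54,1,[(1,0,0),(1,0,349)],[]),(53,7,0,1,[(2,0,347)],[]),(0,3,54,1,[(2,0,351),(1,0,63)],[]),(2,7,54,1,[(2,0,1),(1,0,352)],[]),(54,7,0,1,[(2,0,350)],[]),(2,7,0,1,[(1,0,353),(1,0,354)],[]),(0,3,0,1,[(2,0,355),(2,0,1)],[]),(0,3,0,1,[(2,0,356)],[])])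

def patch3 : Patch := ([(0,2),(0,4),(0,5),(0,6),(2,2),(3,6),(6,4)],[(0,2,1,0,[],[]),(0,4,2,0,[],[]),(0,5,3,0,[],[]),(0,6,4,0,[],[]),(2,2,5,0,[],[]),(5,4,1,17,[(1,0,1),(1,0,4)],[(1,0,0)]),(4,3,4,23,[(1,0,3)],[(0,3,0),(1,0,3)]),(3,6,6,0,[],[]),(6,5,4,31,[(1,0,2),(1,0,7)],[(0,0,0),(1,0,3)]),(6,4,7,0,[],[]),(7,3,1,35,[(1,0,3),(2,0,8),(1,0,9)],[(0,1,0),(1,0,0)]),(6,3,6,22,[(2,0,8)],[(2,0,6),(2,0,8)]),(5,7,1,21,[(2,0,5)],[(2,0,10),(2,0,9),(2,0,11),(1,0,9),(1,0,10)]),(5,7,1,1,[(1,0,12)],[]),(1,2,2,1,[(2,0,13),(2,0,4)],[]),(0,7,2,1,[(1,0,0),(1,0,14)],[]),(2,7,0,1,[(2,0,15)],[]),(0,4,0,1,[(2,0,16),(2,0,1)],[]),(0,4,0,1,[(2,0,17)],[])])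

def patch4 : Patch := ([(0,2),(0,5),(0,6),(3,2),(2,6),(1,1),(5,4)],[(0,2,1,0,[],[]),(0,5,2,0,[],[]),(0,6,3,0,[],[]),(3,2,4,0,[],[]),(4,6,1,19,[(1,0,2),(1,0,3)],[(1,0,0)]),(3,3,3,23,[(1,0,2)],[(0,3,0),(1,0,2)]),(3,4,3,26,[(1,0,2)],[(0,4,0),(1,0,2)]),(2,6,5,0,[],[]),(5,5,3,31,[(1,0,1),(1,0,7)],[(0,0,0),(1,0,2)]),(1,1,6,0,[],[]),(6,2,6,10,[(1,0,0),(1,0,9)],[(0,1,0),(1,0,0),(1,0,9)]),(5,4,7,0,[],[]),(7,3,1,35,[(1,0,2),(2,0,8),(1,0,11)],[(0,1,0),(1,0,0)]),(5,3,5,22,[(2,0,8)],[(2,0,5),(2,0,8)]),(7,7,5,25,[(2,0,8),(1,0,11)],[(2,0,6),(2,0,8)]),(7,7,5,1,[(1,0,14)],[]),(5,3,1,1,[(2,0,15),(1,0,12)],[]),(5,7,1,1,[(1,0,13),(1,0,16)],[]),(5,7,1,1,[(1,0,17)],[]),(1,6,2,1,[(2,0,18),(2,0,7)],[]),(4,7,2,1,[(1,0,4),(1,0,19)],[]),(4,7,2,1,[(1,0,20)],[]),(2,6,1,1,[(2,0,21),(1,0,4)],[]),(6,7,1,35,[(2,0,22),(2,0,1),(0,4,0),(0,3,0),(1,0,0),(1,0,9)],[]),(6,7,1,1,[(1,0,23)],[]),(1,2,1,1,[(2,0,24),(2,0,10),(1,0,24)],[]),(0,7,1,1,[(1,0,0),(1,0,25)],[]),(1,7,0,1,[(2,0,26)],[]),(0,2,0,1,[(2,0,27),(2,0,0)],[]),(0,2,0,1,[(2,0,28)],[])])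

def patch5 : Patch := ([(0,5),(0,6),(1,6),(1,1)],[(0,5,1,0,[],[]),(0,6,2,0,[],[]),(1,2,1,18,[(1,0,0)],[(0,2,0),(1,0,0)]),(1,3,1,22,[(1,0,0)],[(0,3,0),(1,0,0)]),(1,4,1,25,[(1,0,0)],[(0,4,0),(1,0,0)]),(1,6,3,0,[],[]),(3,5,2,31,[(1,0,0),(1,0,5)],[(0,0,0),(1,0,1)]),(1,1,4,0,[],[]),(4,5,4,13,[(1,0,0),(1,0,7)],[(0,1,0),(1,0,0),(1,0,7)]),(3,7,0,35,[(1,0,1),(2,0,6)],[(0,1,0),(0,2,0),(0,3,0),(0,4,0)]),(3,7,0,1,[(1,0,9)],[]),(0,5,2,1,[(2,0,10),(1,0,6)],[]),(1,7,2,1,[(2,0,0),(1,0,11)],[]),(2,7,1,1,[(2,0,12)],[]),(1,6,0,1,[(2,0,13),(2,0,1)],[]),(4,7,1,35,[(1,0,14),(1,0,0),(2,0,4),(2,0,3),(2,0,2),(1,0,7)],[]),(4,7,1,1,[(1,0,15)],[]),(1,5,1,1,[(2,0,16),(2,0,8),(1,0,16)],[]),(0,7,1,1,[(1,0,0),(1,0,17)],[]),(1,7,0,1,[(2,0,18)],[]),(0,5,0,1,[(2,0,19),(2,0,0)],[]),(0,5,0,1,[(2,0,20)],[])])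

def words : List (List ℕ) := [
  [0,0],
  [1,0,1,0,1,0,1,0,1,0],
  [2,0,2,0],
  [3,0,3,0],
  [4,0,4,0],
  [5,0,5,0],
  [6,0,6,0],
  [1,1],
  [2,1,2,1,2,1],
  [3,1,3,1],
  [4,1,4,1],
  [5,1,5,1,5,1],
  [6,1,6,1,6,1],
  [2,2],
  [3,2,3,2,3,2,3,2,3,2,3,2,3,2,3,2],
  [4,2,4,2],
  [5,2,5,2],
  [6,2,6,2],
  [3,3],
  [4,3,4,3,4,3],
  [5,3,5,3],
  [6,3,6,3],
  [4,4],
  [5,4,5,4],
  [6,4,6,4],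
  [5,5],
  [6,5,6,5,6,5,6,5],
  [6,6],
  [2,3,2,3,2,3,2,3,0],
  [5,6,5,6,0],
  [5,2,1,0,5,2,1,0,5,2,1,0,5,2,1,0,5,2,1,0],
  [6,5,1,6,5,1,6,5,1,6,5,1,6,5,1],
  [4,3,2,3,2,1,3,2,3,2,1,3,2,3,2,1,3,2,3,2,1,3,2,3,2,1,4,3,2,3,2,1,3,2,3,2,1,3,2,3,2,1,3,2,3,2,1,3,2,3,2,1,4,3,2,3,2,1,3,2,3,2,1,3,2,3,2,1,3,2,3,2,1,3,2,3,2,1],
  [6,5,4,3,2,1]]

def data : Data := ⟨1, 7, tT, tM, tJ, tPA, words, 34, [patch0, patch1, patch2, patch3, patch4, patch5]⟩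


end

end SuzLC
end H93
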